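import Cfsg.Agent.SchurG.O73.Main
import Cfsg.Agent.Schur.Mx
import Cfsg.Agent.S0292

set_option autoImplicit false
set_option maxRecDepth 100000

namespace Cfsg.Agent.SchurG.O73
open Cfsg.Agent.Comp Cfsg.Agent.Schur Matrix

def I : List Nat := [nat_lit 1, nat_lit 32, nat_lit 1024, nat_lit 32768, nat_lit 1048576, nat_lit 33554432, nat_lit 1073741824]

def C : List Nat := [nat_lit 1, nat_lit 32, nat_lit 1024, nat_lit 32768, nat_lit 1048576, nat_lit 33554432, nat_lit 1073741824]

def O : List Nat := [nat_lit 1, nat_lit 32, nat_lit 1024, nat_lit 32768, nat_lit 1048576, nat_lit 33554432, nat_lit 1073741824]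

def en : Unit ⊕ (Fin 3 ⊕ Fin 3) → ℕ := Sum.elim (fun _ => 0) (Sum.elim (fun i => 1 + i.val) fun i => 4 + i.val)

def bs : List (Unit ⊕ (Fin 3 ⊕ Fin 3) → ZMod 3) := ([Sum.inl ()] ++ ((List.finRange 3).map Sum.inl ++ (List.finRange 3).map Sum.inr).map Sum.inr).map (fun j => Pi.single j 1)

theorem ms : MS (nat_lit 3) (nat_lit 5) (nat_lit 31) (nat_lit 7) I C O bs en (1 : ZMod 3) :=
  ⟨by decide +kernel, by decide +kernel, by decide +kernel, by decide +kernel, by decide +kernel⟩

def M : List (List Nat) :=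
  [[nat_lit 2, nat_lit 35652640, nat_lit 68158496, nat_lit 65536, nat_lit 34604096, nat_lit 34605088, nat_lit 2147483648],
   [nat_lit 1073774592, nat_lit 64, nat_lit 2048, nat_lit 2147516418, nat_lit 2097152, nat_lit 67108864, nat_lit 1073807362],
   [nat_lit 1, nat_lit 2097152, nat_lit 67108864, nat_lit 32768, nat_lit 64, nat_lit 2048, nat_lit 1073741824],
   [nat_lit 1073774592, nat_lit 64, nat_lit 67108864, nat_lit 1073807362, nat_lit 2097152, nat_lit 2048, nat_lit 2147516418],
   [nat_lit 1073774592, nat_lit 68159552, nat_lit 69207104, nat_lit 2147516418, nat_lit 69208096, nat_lit 35653696, nat_lit 1073807362],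
   [nat_lit 1, nat_lit 34604096, nat_lit 34605088, nat_lit 1073741824, nat_lit 35652640, nat_lit 68158496, nat_lit 32768],
   [nat_lit 1108378658, nat_lit 1107330081, nat_lit 2216755266, nat_lit 2216691778, nat_lit 1108378625, nat_lit 2149648450, nat_lit 69273666],
   [nat_lit 1109427266, nat_lit 2214660130, nat_lit 2215706658, nat_lit 2215643170, nat_lit 2215708674, nat_lit 2148599842, nat_lit 68225058],
   [nat_lit 1141933088, nat_lit 2183202850, nat_lit 1141932065, nat_lit 2183170114, nat_lit 2182154306, nat_lit 2149648450, nat_lit 1109461058],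
   [nat_lit 1108378658, nat_lit 2182153218, nat_lit 2182154306, nat_lit 2216691778, nat_lit 2214660162, nat_lit 2215707714, nat_lit 69273666],
   [nat_lit 2214659074, nat_lit 32, nat_lit 2181104641, nat_lit 2214593537, nat_lit 1048576, nat_lit 1107330050, nat_lit 67175425],
   [nat_lit 1109427266, nat_lit 34669601, nat_lit 2215706658, nat_lit 1140885570, nat_lit 2182087713, nat_lit 2148599842, nat_lit 1142982658],
   [nat_lit 1, nat_lit 32, nat_lit 1024, nat_lit 32768, nat_lit 1048576, nat_lit 33554432, nat_lit 1073741824]]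

theorem Mok : MOK (nat_lit 3) (nat_lit 5) bs en M := ms.mok (by decide +kernel)

/-- the matrices of the letters -/
def Mm : ℕ → Matrix (Unit ⊕ (Fin 3 ⊕ Fin 3)) (Unit ⊕ (Fin 3 ⊕ Fin 3)) (ZMod 3) := mat (nat_lit 5) bs en M

def Zs : List (List Nat) :=
  [[],
   [],
   [],
   [],
   [],
   [],
   [],
   [],
   [],
   [],
   [],
   [],
   [],
   [],
   [],
   [],
   [],
   [],
   [],
   [],
   [],
   [],
   [],
   [],
   [],
   [],
   [],
   [],
   [],
   [],
   [],
   [],
   [],
   [],
   [],
   [],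
   [],
   [],
   [],
   [],
   [],
   [],
   [],
   [],
   [],
   [],
   [],
   [],
   [],
   [],
   [],
   [],
   [],
   [],
   [],
   [],
   [],
   [],
   [],
   [],
   [],
   [],
   [],
   [],
   [],
   [],
   [],
   [],
   [],
   [],
   [],
   [],
   [],
   []]

theorem eqsM : ∀ e ∈ (R.zip Zs), ev Mm e.1 = ev Mm e.2 := ms.eqs Mok (by decide +kernel)

theorem satM : Sat Mm R := ms.sat Mok (by decide +kernel)

def A : Matrix (Unit ⊕ (Fin 3 ⊕ Fin 3)) (Unit ⊕ (Fin 3 ⊕ Fin 3)) (ZMod 3) := fromBlocks 1 0 0 (fromBlocks 0 1 0 0)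

theorem isom : ∀ x < 12, (∀ i, ((Mm x)ᵀ * A * Mm x) i i = A i i) ∧
    ∀ i j, ((Mm x)ᵀ * A * Mm x) i j + ((Mm x)ᵀ * A * Mm x) j i = A i j + A j i := by
  decide +kernel

theorem exists_iso (F : Type*) [Field F] [Fintype F] (hF : Fintype.card F = 3) :
    Nonempty (G ≃* POmega F (quadFormOdd 3 F)) := by
  obtain ⟨e⟩ := exists_emb (ZMod 3) F (ZMod.card 3) hF
  have := simple
  refine equiv_quot pres hR ((glMat_injective _).comp Subtype.val_injective) e.injective
    (mem_comm pres hR (by rw [card.2.1]; norm_num) (glMat_injective _) (fun x hx =>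
      mem_isom e (quadFormOdd_eq e 3) (isUnit_of_sat satM (L := 12) (by decide +kernel) x hx) (isom x hx).1 (isom x hx).2) satM)
    eqsM (c := 1) (a := 0) (b := 6) (by decide +kernel) (by decide +kernel) (by decide +kernel) ?_
  have h := S0292.result hF (by decide) 3 (by norm_num)
  rw [card.2.1]
  simp [Finset.prod_range_succ] at h
  change Nat.card (POmega F (quadFormOdd 3 F)) ≤ _
  omega

end Cfsg.Agent.SchurG.O73
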