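import Cfsg.Agent.SchurG.O73.Pres
import Cfsg.Agent.SchurG.O73.Top

set_option autoImplicit false
set_option maxRecDepth 100000

namespace Cfsg.Agent.SchurG.O73
open Cfsg.Agent.Comp

namespace Tk7

noncomputable def t0 : Tr := (Tr.leaf (nat_lit 0x1fffff800fffffc007ffffe003fffff001fffff800fffffc007ffffe003fffff001fffff800fffffc007ffffe003fffff001fffff800fffffe087ff020003ff831))

noncomputable def T : Tr := t0

def RT : List (List (List Nat)) := [
  [],
  []]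

def HT : List (List (Nat × Nat × Nat)) := [
  [],
  []]

def R : List (List Nat) :=
  [[0, 0]]

def W : List (List Nat) := []

noncomputable def P : Par := ⟨T, (nat_lit 4), (nat_lit 15), (nat_lit 33), (nat_lit 11), (nat_lit 2047), (nat_lit 5), (nat_lit 31), (nat_lit 1), (nat_lit 18), (nat_lit 32), (nat_lit 0x820), RT⟩

noncomputable def J0 : List Nat := [
  nat_lit 0x69249249249249249249249]

theorem c0 : chk T (nat_lit 4) (nat_lit 15) (nat_lit 33) (nat_lit 11) (nat_lit 2047) (nat_lit 5) (nat_lit 31) (nat_lit 1) (nat_lit 18) (nat_lit 32) (nat_lit 0x820) (nat_lit 1) (nat_lit 1) RT (nat_lit 16) J0 (nat_lit 16) = true := by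
  decide +kernel

theorem r0 : P.RowsOK 16 32 := chk_sound P _ _ _ J0 _ _ (by decide +kernel) c0

theorem index.{u} : IndexLe.{u} 1 R W 2 :=
  indexLe_of_cert P HT (by decide +kernel)
    (show P.RowsOK 16 32 from r0)

end Tk7

theorem upK_7 : CardLe (genW s [[0]]) 2 :=
  CardLe.tc (V' := []) (n := 2) (m := 1) [0] Tk7.index pres.sat (by decide +kernel) (by decide +kernel) (by decide +kernel) (cardLe_nil s)

namespace Tk6

noncomputable def t0 : Tr := (Tr.leaf (nat_lit 0x1ffffffff001ffffffff001ffffffff001ffffffff001ffffffff001ffffffff001ffffffff001ffffffff001ffffffff001ffffffff001ffffffff001ffffffff001ffffffff001ffffffff861ffc08051001ffc18830))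

noncomputable def T : Tr := t0

def RT : List (List (List Nat)) := [
  [[nat_lit 3],
   [nat_lit 1, nat_lit 0, nat_lit 1]],
  [],
  []]

def HT : List (List (Nat × Nat × Nat)) := [
  [(2, 0, 0), (0, 2, 1)],
  [],
  []]

def R : List (List Nat) :=
  [[0, 0],
   [1, 1],
   [0, 1, 0, 1]]

def W : List (List Nat) := [[0]]

noncomputable def P : Par := ⟨T, (nat_lit 4), (nat_lit 15), (nat_lit 44), (nat_lit 11), (nat_lit 2047), (nat_lit 5), (nat_lit 31), (nat_lit 2), (nat_lit 18), (nat_lit 32), (nat_lit 0x18820), RT⟩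

noncomputable def J0 : List Nat := [
  nat_lit 0x4d0791111111111111111111111111111111111111111111]

theorem c0 : chk T (nat_lit 4) (nat_lit 15) (nat_lit 44) (nat_lit 11) (nat_lit 2047) (nat_lit 5) (nat_lit 31) (nat_lit 2) (nat_lit 18) (nat_lit 32) (nat_lit 0x18820) (nat_lit 2) (nat_lit 3) RT (nat_lit 16) J0 (nat_lit 16) = true := by
  decide +kernel

theorem r0 : P.RowsOK 16 32 := chk_sound P _ _ _ J0 _ _ (by decide +kernel) c0

theorem index.{u} : IndexLe.{u} 2 R W 2 :=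
  indexLe_of_cert P HT (by decide +kernel)
    (show P.RowsOK 16 32 from r0)

end Tk6

theorem upK_6 : CardLe (genW s [[0], [1]]) 4 :=
  CardLe.tc (V' := [[0]]) (n := 2) (m := 2) [0, 1] Tk6.index pres.sat (by decide +kernel) (by decide +kernel) (by decide +kernel) upK_7

namespace Tk5

noncomputable def t0 : Tr := (Tr.leaf (nat_lit 0x1ffffffffffe003ffffffffffc007ffffffffff800fffffffffff001ffffffffffe003ffffffffffc007ffffffffff800fffffffffff001ffffffffffe003ffffffffffc007ffffffffff800fffffffffff001ffffffffffe003ffffffffffe287ff02014428800ffe0c418030))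

noncomputable def T : Tr := t0

def RT : List (List (List Nat)) := [
  [[nat_lit 4],
   [nat_lit 2, nat_lit 0, nat_lit 2]],
  [[nat_lit 4],
   [nat_lit 2, nat_lit 1, nat_lit 2]],
  [],
  []]

def HT : List (List (Nat × Nat × Nat)) := [
  [(2, 0, 0), (0, 4, 1)],
  [(2, 1, 0), (0, 5, 1)],
  [],
  []]

def R : List (List Nat) :=
  [[0, 0],
   [1, 1],
   [2, 2],
   [0, 1, 0, 1],
   [0, 2, 0, 2],
   [1, 2, 1, 2]]

def W : List (List Nat) := [[0],
   [1]]

noncomputable def P : Par := ⟨T, (nat_lit 4), (nat_lit 15), (nat_lit 55), (nat_lit 11), (nat_lit 2047), (nat_lit 5), (nat_lit 31), (nat_lit 3), (nat_lit 18), (nat_lit 32), (nat_lit 0x418820), RT⟩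

noncomputable def J0 : List Nat := [
  nat_lit 0x134001341f9111111111111111111111111111111111111111111111111111111111]

theorem c0 : chk T (nat_lit 4) (nat_lit 15) (nat_lit 55) (nat_lit 11) (nat_lit 2047) (nat_lit 5) (nat_lit 31) (nat_lit 3) (nat_lit 18) (nat_lit 32) (nat_lit 0x418820) (nat_lit 2) (nat_lit 3) RT (nat_lit 16) J0 (nat_lit 16) = true := by
  decide +kernel

theorem r0 : P.RowsOK 16 32 := chk_sound P _ _ _ J0 _ _ (by decide +kernel) c0

theorem index.{u} : IndexLe.{u} 3 R W 2 :=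
  indexLe_of_cert P HT (by decide +kernel)
    (show P.RowsOK 16 32 from r0)

end Tk5

theorem upK_5 : CardLe (genW s [[0], [1], [2]]) 8 :=
  CardLe.tc (V' := [[0], [1]]) (n := 2) (m := 4) [0, 1, 2] Tk5.index pres.sat (by decide +kernel) (by decide +kernel) (by decide +kernel) upK_6

namespace Tk4

noncomputable def t0 : Tr := (Tr.leaf (nat_lit 0xfffffffffffffffffffff000fffffffffffffffffffff000fffffffffffffffffffff000fffffffffffffffffffff000fffffffffffffffffffff000fffffffffffffffffffff000fffffffffffffffffffff000fffffffffffffffffffffcb4fff0140550760970970978b2fff0120530970760760768b1fff011077053075075075891fff0370110520740740744b0fff010076075053053053490fff036010074052052052470fff035034010051051051000fff033032031030030030))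

noncomputable def T : Tr := t0

def RT : List (List (List Nat)) := [
  [[nat_lit 7],
   [nat_lit 3, nat_lit 0, nat_lit 3],
   [nat_lit 4, nat_lit 0, nat_lit 4],
   [nat_lit 5, nat_lit 0, nat_lit 5]],
  [[nat_lit 7],
   [nat_lit 3, nat_lit 1, nat_lit 3],
   [nat_lit 4, nat_lit 1, nat_lit 4],
   [nat_lit 5, nat_lit 1, nat_lit 5]],
  [[nat_lit 7],
   [nat_lit 3, nat_lit 2, nat_lit 3],
   [nat_lit 4, nat_lit 2, nat_lit 4],
   [nat_lit 5, nat_lit 2, nat_lit 5]],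
  [[nat_lit 4, nat_lit 3, nat_lit 4],
   [nat_lit 5, nat_lit 3, nat_lit 5]],
  [[nat_lit 5, nat_lit 4, nat_lit 5]],
  [],
  []]

def HT : List (List (Nat × Nat × Nat)) := [
  [(2, 0, 0), (0, 9, 1), (0, 12, 1), (0, 16, 1)],
  [(2, 1, 0), (0, 10, 1), (0, 13, 1), (0, 17, 1)],
  [(2, 2, 0), (0, 11, 1), (0, 14, 1), (0, 18, 1)],
  [(0, 15, 1), (0, 19, 1)],
  [(0, 20, 1)],
  [],
  []]

def R : List (List Nat) :=
  [[0, 0],
   [1, 1],
   [2, 2],
   [3, 3],
   [4, 4],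
   [5, 5],
   [0, 1, 0, 1],
   [0, 2, 0, 2],
   [1, 2, 1, 2],
   [0, 3, 0, 3],
   [1, 3, 1, 3],
   [2, 3, 2, 3],
   [0, 4, 0, 4],
   [1, 4, 1, 4],
   [2, 4, 2, 4],
   [3, 4, 3, 4],
   [0, 5, 0, 5],
   [1, 5, 1, 5],
   [2, 5, 2, 5],
   [3, 5, 3, 5],
   [4, 5, 4, 5]]

def W : List (List Nat) := [[0],
   [1],
   [2]]

noncomputable def P : Par := ⟨T, (nat_lit 4), (nat_lit 15), (nat_lit 96), (nat_lit 12), (nat_lit 4095), (nat_lit 5), (nat_lit 31), (nat_lit 6), (nat_lit 24), (nat_lit 32), (nat_lit 0x398a418820), RT⟩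

noncomputable def J0 : List Nat := [
  nat_lit 0x2320008c800232000b6e20064822036d0221922880db58886da14436d6a210842108421084210842108421084210842108421084210842108421084210842108421]

theorem c0 : chk T (nat_lit 4) (nat_lit 15) (nat_lit 96) (nat_lit 12) (nat_lit 4095) (nat_lit 5) (nat_lit 31) (nat_lit 6) (nat_lit 24) (nat_lit 32) (nat_lit 0x398a418820) (nat_lit 3) (nat_lit 7) RT (nat_lit 16) J0 (nat_lit 16) = true := by
  decide +kernel

theorem r0 : P.RowsOK 16 32 := chk_sound P _ _ _ J0 _ _ (by decide +kernel) c0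

theorem index.{u} : IndexLe.{u} 6 R W 8 :=
  indexLe_of_cert P HT (by decide +kernel)
    (show P.RowsOK 16 32 from r0)

end Tk4

theorem upK_4 : CardLe (genW s [[0], [1], [2], [3], [4], [5]]) 64 :=
  CardLe.tc (V' := [[0], [1], [2]]) (n := 8) (m := 8) [0, 1, 2, 3, 4, 5] Tk4.index pres.sat (by decide +kernel) (by decide +kernel) (by decide +kernel) upK_5

namespace Tk3

noncomputable def t0 : Tr := (Tr.leaf (nat_lit 0x1ffffffffffffffffffffffffc007ffffffffffffffffffffffff001ffffffffffffffffffffffffc007ffffffffffffffffffffffff001ffffffffffffffffffffffffc007ffffffffffffffffffffffff001ffffffffffffffffffffffffc007ffffffffffffffffffffffff001ffffffffffffffffffffffffc007ffffffffffffffffffffffff001ffffffffffffffffffffffffc007ffffffffffffffffffffffff001ffffffffffffffffffffffffe787ff0a2040590520a4248290529a1ffc080720a21c4388510a2144007ff0640c4180300600c018030))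

noncomputable def T : Tr := t0

def RT : List (List (List Nat)) := [
  [[nat_lit 9],
   [nat_lit 7, nat_lit 1, nat_lit 6],
   [nat_lit 6, nat_lit 0, nat_lit 2, nat_lit 7]],
  [[nat_lit 6, nat_lit 0, nat_lit 7],
   [nat_lit 9],
   [nat_lit 7, nat_lit 0, nat_lit 2, nat_lit 6]],
  [[nat_lit 7, nat_lit 0, nat_lit 1, nat_lit 6],
   [nat_lit 9]],
  [[nat_lit 9],
   [nat_lit 6, nat_lit 0, nat_lit 1, nat_lit 3, nat_lit 7],
   [nat_lit 1, nat_lit 0, nat_lit 7, nat_lit 3, nat_lit 6]],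
  [[nat_lit 9],
   [nat_lit 6, nat_lit 2, nat_lit 4, nat_lit 7],
   [nat_lit 2, nat_lit 7, nat_lit 4, nat_lit 6]],
  [[nat_lit 9],
   [nat_lit 7, nat_lit 2, nat_lit 5, nat_lit 6],
   [nat_lit 2, nat_lit 6, nat_lit 5, nat_lit 7]],
  [],
  [[nat_lit 6, nat_lit 6]],
  []]

def HT : List (List (Nat × Nat × Nat)) := [
  [(2, 0, 0), (0, 24, 1), (0, 30, 4)],
  [(0, 24, 3), (2, 1, 0), (0, 25, 4)],
  [(0, 29, 4), (2, 2, 0)],
  [(2, 3, 0), (0, 28, 5), (1, 28, 4)],
  [(2, 4, 0), (0, 27, 4), (1, 27, 4)],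
  [(2, 5, 0), (0, 26, 4), (1, 26, 4)],
  [],
  [(0, 23, 0)],
  []]

def R : List (List Nat) :=
  [[0, 0],
   [1, 1],
   [2, 2],
   [3, 3],
   [4, 4],
   [5, 5],
   [6, 7],
   [7, 6],
   [0, 1, 0, 1],
   [0, 2, 0, 2],
   [1, 2, 1, 2],
   [0, 3, 0, 3],
   [1, 3, 1, 3],
   [2, 3, 2, 3],
   [0, 4, 0, 4],
   [1, 4, 1, 4],
   [2, 4, 2, 4],
   [3, 4, 3, 4],
   [0, 5, 0, 5],
   [1, 5, 1, 5],
   [2, 5, 2, 5],
   [3, 5, 3, 5],
   [4, 5, 4, 5],
   [6, 6, 6],
   [0, 7, 1, 6],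
   [0, 2, 6, 1, 7],
   [2, 5, 6, 5, 7],
   [2, 4, 7, 4, 6],
   [0, 1, 3, 7, 3, 6],
   [0, 1, 6, 2, 7],
   [0, 2, 7, 0, 6]]

def W : List (List Nat) := [[0],
   [1],
   [2],
   [3],
   [4],
   [5]]

noncomputable def P : Par := ⟨T, (nat_lit 4), (nat_lit 15), (nat_lit 110), (nat_lit 11), (nat_lit 2047), (nat_lit 5), (nat_lit 31), (nat_lit 8), (nat_lit 19), (nat_lit 32), (nat_lit 0x12831ca418820), RT⟩

noncomputable def J0 : List Nat := [
  nat_lit 0x1190004e4001390004640011900046400b8a462218937228210842108421084210842108421084210842108421084210842108421084210842108421084210842108421084210842108421084210842108421084210842108421084210842108421]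

theorem c0 : chk T (nat_lit 4) (nat_lit 15) (nat_lit 110) (nat_lit 11) (nat_lit 2047) (nat_lit 5) (nat_lit 31) (nat_lit 8) (nat_lit 19) (nat_lit 32) (nat_lit 0x12831ca418820) (nat_lit 3) (nat_lit 7) RT (nat_lit 16) J0 (nat_lit 16) = true := by
  decide +kernel

theorem r0 : P.RowsOK 16 32 := chk_sound P _ _ _ J0 _ _ (by decide +kernel) c0

theorem index.{u} : IndexLe.{u} 8 R W 3 :=
  indexLe_of_cert P HT (by decide +kernel)
    (show P.RowsOK 16 32 from r0)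

end Tk3

theorem upK_3 : CardLe (genW s [[0], [1], [2], [3], [4], [5], [6], [7]]) 192 :=
  CardLe.tc (V' := [[0], [1], [2], [3], [4], [5]]) (n := 3) (m := 64) [0, 1, 2, 3, 4, 5, 6, 7] Tk3.index pres.sat (by decide +kernel) (by decide +kernel) (by decide +kernel) upK_4

namespace Tk2

noncomputable def t0 : Tr := (Tr.leaf (nat_lit 0xffffffffffffffffffffffffffffff000ffffffffffffffffffffffffffffff000ffffffffffffffffffffffffffffff000ffffffffffffffffffffffffffffffd17fff0171ba11919b15b15b17b15b15bd15fff0151791db0fa11a05a15a0da13ad14fff01413b19a0f90b91190f91390b9c92fff1180d61330f70120d30b30b40558f1fff03b0b40111180d40f50d50920938b1fff0560d30f80110530920720b5074891fff03a0d50b50b30110d70f7096078851fff0390710d70d20f70510110d8096831fff0531180b60950760f80d80110b7811fff0520d20b20b40380b60960b7011510fff010037094036035074034033032000fff031050030030030030030030030))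

noncomputable def T : Tr := t0

def RT : List (List (List Nat)) := [
  [[nat_lit 4, nat_lit 0, nat_lit 4],
   [nat_lit 10],
   [nat_lit 8, nat_lit 5, nat_lit 8, nat_lit 5, nat_lit 8, nat_lit 2],
   [nat_lit 8, nat_lit 0, nat_lit 8, nat_lit 0, nat_lit 8],
   [nat_lit 6, nat_lit 2, nat_lit 0, nat_lit 7],
   [nat_lit 6, nat_lit 2, nat_lit 7, nat_lit 1]],
  [[nat_lit 10],
   [nat_lit 6, nat_lit 0, nat_lit 7],
   [nat_lit 4, nat_lit 1, nat_lit 4],
   [nat_lit 0, nat_lit 1, nat_lit 0],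
   [nat_lit 8, nat_lit 1, nat_lit 8, nat_lit 1, nat_lit 8],
   [nat_lit 6, nat_lit 2, nat_lit 7, nat_lit 0]],
  [[nat_lit 10],
   [nat_lit 8, nat_lit 5, nat_lit 8, nat_lit 5, nat_lit 8, nat_lit 0],
   [nat_lit 0, nat_lit 8, nat_lit 5, nat_lit 8, nat_lit 5, nat_lit 8],
   [nat_lit 4, nat_lit 2, nat_lit 4],
   [nat_lit 0, nat_lit 6, nat_lit 1, nat_lit 7],
   [nat_lit 1, nat_lit 2, nat_lit 1]],
  [[nat_lit 10],
   [nat_lit 2, nat_lit 8, nat_lit 3, nat_lit 2, nat_lit 8],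
   [nat_lit 0, nat_lit 3, nat_lit 0],
   [nat_lit 4, nat_lit 3, nat_lit 4],
   [nat_lit 8, nat_lit 4, nat_lit 8, nat_lit 0, nat_lit 5, nat_lit 8, nat_lit 4, nat_lit 8],
   [nat_lit 6, nat_lit 0, nat_lit 1, nat_lit 3, nat_lit 7],
   [nat_lit 1, nat_lit 3, nat_lit 1]],
  [[nat_lit 10],
   [nat_lit 5, nat_lit 8, nat_lit 5, nat_lit 4, nat_lit 1, nat_lit 8, nat_lit 1],
   [nat_lit 8, nat_lit 0, nat_lit 5, nat_lit 8, nat_lit 4, nat_lit 8, nat_lit 3, nat_lit 8],
   [nat_lit 6, nat_lit 2, nat_lit 4, nat_lit 7],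
   [nat_lit 1, nat_lit 4, nat_lit 1]],
  [[nat_lit 10],
   [nat_lit 2, nat_lit 5, nat_lit 2],
   [nat_lit 8, nat_lit 5, nat_lit 8, nat_lit 2, nat_lit 0, nat_lit 8],
   [nat_lit 4, nat_lit 5, nat_lit 4],
   [nat_lit 2, nat_lit 6, nat_lit 5, nat_lit 7],
   [nat_lit 1, nat_lit 5, nat_lit 1]],
  [[nat_lit 8, nat_lit 6, nat_lit 2, nat_lit 8, nat_lit 2],
   [nat_lit 10],
   [nat_lit 1, nat_lit 6, nat_lit 0],
   [nat_lit 0, nat_lit 6, nat_lit 2, nat_lit 0],
   [nat_lit 4, nat_lit 6, nat_lit 2, nat_lit 4]],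
  [[nat_lit 2, nat_lit 8, nat_lit 2, nat_lit 7, nat_lit 8],
   [nat_lit 6, nat_lit 6],
   [nat_lit 1, nat_lit 7, nat_lit 0, nat_lit 2]],
  [[nat_lit 0, nat_lit 8, nat_lit 0, nat_lit 8, nat_lit 0],
   [nat_lit 1, nat_lit 8, nat_lit 1, nat_lit 8, nat_lit 1],
   [nat_lit 5, nat_lit 8, nat_lit 0, nat_lit 2, nat_lit 8, nat_lit 5],
   [nat_lit 4, nat_lit 8, nat_lit 5, nat_lit 0, nat_lit 8, nat_lit 4, nat_lit 8, nat_lit 3]],
  []]

def HT : List (List (Nat × Nat × Nat)) := [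
  [(0, 15, 1), (2, 0, 0), (1, 34, 0), (0, 32, 1), (1, 39, 2), (1, 37, 0)],
  [(2, 1, 0), (0, 25, 3), (0, 16, 1), (0, 9, 0), (0, 33, 1), (0, 37, 2)],
  [(2, 2, 0), (0, 34, 2), (1, 34, 6), (0, 17, 1), (1, 26, 4), (0, 11, 0)],
  [(2, 3, 0), (1, 30, 2), (0, 12, 0), (0, 18, 1), (0, 36, 6), (0, 29, 5), (0, 13, 0)],
  [(2, 4, 0), (0, 35, 2), (0, 36, 8), (0, 28, 4), (0, 16, 0)],
  [(2, 5, 0), (0, 21, 0), (1, 34, 2), (0, 23, 0), (1, 27, 4), (0, 20, 0)],
  [(0, 31, 2), (2, 6, 0), (0, 25, 2), (1, 39, 1), (0, 28, 3)],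
  [(0, 31, 4), (0, 24, 0), (0, 26, 3)],
  [(0, 32, 0), (0, 33, 0), (0, 34, 5), (1, 36, 5)],
  []]

def R : List (List Nat) :=
  [[0, 0],
   [1, 1],
   [2, 2],
   [3, 3],
   [4, 4],
   [5, 5],
   [6, 7],
   [7, 6],
   [8, 8],
   [0, 1, 0, 1],
   [0, 2, 0, 2],
   [1, 2, 1, 2],
   [0, 3, 0, 3],
   [1, 3, 1, 3],
   [2, 3, 2, 3],
   [0, 4, 0, 4],
   [1, 4, 1, 4],
   [2, 4, 2, 4],
   [3, 4, 3, 4],
   [0, 5, 0, 5],
   [1, 5, 1, 5],
   [2, 5, 2, 5],
   [3, 5, 3, 5],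
   [4, 5, 4, 5],
   [6, 6, 6],
   [0, 7, 1, 6],
   [0, 2, 6, 1, 7],
   [2, 5, 6, 5, 7],
   [2, 4, 7, 4, 6],
   [0, 1, 3, 7, 3, 6],
   [2, 3, 8, 2, 3, 8],
   [2, 7, 8, 6, 2, 8],
   [0, 8, 0, 8, 0, 8],
   [1, 8, 1, 8, 1, 8],
   [0, 2, 8, 5, 8, 5, 8],
   [1, 4, 5, 8, 5, 4, 1, 8],
   [0, 5, 8, 4, 8, 3, 8, 4, 8],
   [0, 1, 6, 2, 7],
   [3, 7, 8, 6, 3, 8],
   [0, 2, 7, 0, 6],
   [0, 1, 6, 8, 2, 7, 8]]

def W : List (List Nat) := [[0],
   [1],
   [2],
   [3],
   [4],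
   [5],
   [6],
   [7]]

noncomputable def P : Par := ⟨T, (nat_lit 4), (nat_lit 15), (nat_lit 132), (nat_lit 12), (nat_lit 4095), (nat_lit 5), (nat_lit 31), (nat_lit 9), (nat_lit 28), (nat_lit 32), (nat_lit 0x292831ca418820), RT⟩

noncomputable def J0 : List Nat := [
  nat_lit 0x11c40010c40010c40010c40010c40010c40011c400100000000841840000d408108400150cc10084c000801040884180014034384010177706084c01255585c1141564344008415646340284163675623841041041041041041041041041041041041041041041041041041041041041]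

theorem c0 : chk T (nat_lit 4) (nat_lit 15) (nat_lit 132) (nat_lit 12) (nat_lit 4095) (nat_lit 5) (nat_lit 31) (nat_lit 9) (nat_lit 28) (nat_lit 32) (nat_lit 0x292831ca418820) (nat_lit 4) (nat_lit 15) RT (nat_lit 16) J0 (nat_lit 16) = true := by
  decide +kernel

theorem r0 : P.RowsOK 16 32 := chk_sound P _ _ _ J0 _ _ (by decide +kernel) c0

theorem index.{u} : IndexLe.{u} 9 R W 12 :=
  indexLe_of_cert P HT (by decide +kernel)
    (show P.RowsOK 16 32 from r0)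

end Tk2

theorem upK_2 : CardLe (genW s [[0], [1], [2], [3], [4], [5], [6], [7], [8]]) 2304 :=
  CardLe.tc (V' := [[0], [1], [2], [3], [4], [5], [6], [7]]) (n := 12) (m := 192) [0, 1, 2, 3, 4, 5, 6, 7, 8] Tk2.index pres.sat (by decide +kernel) (by decide +kernel) (by decide +kernel) upK_3

namespace Tk1

noncomputable def t0 : Tr := (Tr.node (nat_lit 0) (Tr.leaf (nat_lit 0x895ffff005c55f01b006b16782e20d8035e097431f895bfff005812501a8069177c3630f6c39f0f903de8957fff005412601a006717902a00e883240a7c35d8157fff0a9015c0e7035c0c58257056021800542d96953fff005009b0198065158006410782a0098c31b6553fff018c19a0a5c29800501d80a5c1d70a642556453fff01880610c543560a600140c58316096831c6153fff01800d80968117096421a067025c00503966053fff017c197056025a095429c0b6821a0b58014684ffff01780130e642550d703550d643590c5c3d8684bfff01740120a582d90a5c39604501d4017029a4847fff016c01104500d40168059055421501600574747fff02480560248011024c113064c153064c1534647fff034c05500440d30748192024819204480d22943fff0040054014c052064409103440d102441510003fff01440500240050014005001400500140050))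
(Tr.node (nat_lit 1) (Tr.leaf (nat_lit 0xa68bfff19a07f500880f014bc42716a43ed10c832da783fff13ac2ee02b402013c03351fa04b30eb8366a683fff12cc07900800ee14b43eb16d03af0d9436fa77ffff1bc84a302ac01f19a033320c05350db05eaa67ffff14b8520007c0ec15ac42d0dc84e716a42a7a77bfff1b9c86a02a401e1cd467020cc66810a862ca67bfff18c007800780ea17a45a517bc63417ac434a777fff1abc077029c01d1ab05e620b86aa0ea05b5a677fff1ca852700740e8169c46f05944ab15d02eb876ffff04940dd029401b03cc6281ed43f00d983ae866ffff05980de006c0e61594569069c4720eb42b2846ffff097007601d4074167401b0f8c2dd0e78364896bfff00684ec01cc072148831e1090262086c2e38967fff006407101c006f158c29f0d742a30b802e28867fff0f840190f843a10c8446107844210b843618963fff006056b01b806d146c25d0c7c25b0c88360))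
(Tr.leaf (nat_lit 0x3ffffffffffffffffffffffffffffffffffffff0003ffffffffffffffffffffffffffffffffffffff0003ffffffffffffffffffffffffffffffffffffffc0dbfff22f03bc18e493b1de07f620dc5fb21dc036c8cffff22ec03323f09390ed86b824e863c1de8738c0c7fff23d833a26e09771fe47f125ec8b71eec031c8b7fff25e402d25ec67c20e88f722d883110d8837c8a7fff06dc02921dc9fa1ef06fb24c47b618c477bc8a3fff07e002824e88b823c493921f08fa22f0879a893fff24e80241bd86b60fec83c23e47f811e407ca793fff1cd07af02d00241ba82ee1d984ec0ed4568a693fff1dd46b000900f516d04f215b4669149c3e9a78ffff11b407b02c802302982ec1fa846e0ccc430a68ffff1ab04f2008c0f315c85340cac4a50fbc265a88bfff22c402229c4a3124dc83a25e087919e007aa78bfff17a46f402bc02212b862a1fb03a60cc0473))))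

noncomputable def T : Tr := t0

def RT : List (List (List Nat)) := [
  [[nat_lit 11],
   [nat_lit 7, nat_lit 1, nat_lit 6],
   [nat_lit 2, nat_lit 6, nat_lit 1, nat_lit 7],
   [nat_lit 9, nat_lit 1, nat_lit 9, nat_lit 2],
   [nat_lit 2, nat_lit 9, nat_lit 1, nat_lit 9],
   [nat_lit 4, nat_lit 0, nat_lit 4],
   [nat_lit 1, nat_lit 0, nat_lit 1],
   [nat_lit 6, nat_lit 2, nat_lit 0, nat_lit 7],
   [nat_lit 2, nat_lit 0, nat_lit 2],
   [nat_lit 8, nat_lit 0, nat_lit 8, nat_lit 0, nat_lit 8]],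
  [[nat_lit 11],
   [nat_lit 9, nat_lit 0, nat_lit 2, nat_lit 9],
   [nat_lit 0, nat_lit 7, nat_lit 3, nat_lit 6, nat_lit 3],
   [nat_lit 0, nat_lit 6, nat_lit 2, nat_lit 7],
   [nat_lit 9, nat_lit 2, nat_lit 0, nat_lit 9],
   [nat_lit 4, nat_lit 1, nat_lit 4],
   [nat_lit 2, nat_lit 9, nat_lit 4, nat_lit 9],
   [nat_lit 6, nat_lit 0, nat_lit 7],
   [nat_lit 7, nat_lit 2, nat_lit 0, nat_lit 6],
   [nat_lit 0, nat_lit 1, nat_lit 0],
   [nat_lit 8, nat_lit 1, nat_lit 8, nat_lit 1, nat_lit 8],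
   [nat_lit 2, nat_lit 1, nat_lit 2]],
  [[nat_lit 11],
   [nat_lit 7, nat_lit 0, nat_lit 1, nat_lit 6],
   [nat_lit 1, nat_lit 9, nat_lit 4, nat_lit 9],
   [nat_lit 7, nat_lit 1, nat_lit 0, nat_lit 6],
   [nat_lit 8, nat_lit 5, nat_lit 8, nat_lit 5, nat_lit 8, nat_lit 0],
   [nat_lit 9, nat_lit 4, nat_lit 9, nat_lit 1],
   [nat_lit 1, nat_lit 2, nat_lit 1],
   [nat_lit 0, nat_lit 7, nat_lit 0, nat_lit 6],
   [nat_lit 4, nat_lit 2, nat_lit 4],
   [nat_lit 8, nat_lit 2, nat_lit 7, nat_lit 8, nat_lit 6],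
   [nat_lit 0, nat_lit 9, nat_lit 1, nat_lit 9],
   [nat_lit 0, nat_lit 2, nat_lit 0],
   [nat_lit 0, nat_lit 8, nat_lit 5, nat_lit 8, nat_lit 5, nat_lit 8]],
  [[nat_lit 11],
   [nat_lit 9, nat_lit 1, nat_lit 3, nat_lit 9, nat_lit 1],
   [nat_lit 7, nat_lit 9, nat_lit 3, nat_lit 9, nat_lit 6],
   [nat_lit 6, nat_lit 3, nat_lit 1, nat_lit 0, nat_lit 7],
   [nat_lit 8, nat_lit 4, nat_lit 8, nat_lit 0, nat_lit 5, nat_lit 8, nat_lit 4, nat_lit 8],
   [nat_lit 8, nat_lit 3, nat_lit 7, nat_lit 8, nat_lit 6],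
   [nat_lit 0, nat_lit 3, nat_lit 0],
   [nat_lit 1, nat_lit 3, nat_lit 1],
   [nat_lit 9, nat_lit 6, nat_lit 3, nat_lit 7, nat_lit 9],
   [nat_lit 2, nat_lit 3, nat_lit 2],
   [nat_lit 4, nat_lit 3, nat_lit 4],
   [nat_lit 1, nat_lit 9, nat_lit 3, nat_lit 1, nat_lit 9],
   [nat_lit 5, nat_lit 3, nat_lit 5],
   [nat_lit 2, nat_lit 8, nat_lit 3, nat_lit 2, nat_lit 8]],
  [[nat_lit 9, nat_lit 1, nat_lit 2, nat_lit 9],
   [nat_lit 11],
   [nat_lit 6, nat_lit 4, nat_lit 2, nat_lit 7],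
   [nat_lit 6, nat_lit 2, nat_lit 4, nat_lit 7],
   [nat_lit 5, nat_lit 8, nat_lit 5, nat_lit 4, nat_lit 1, nat_lit 8, nat_lit 1],
   [nat_lit 2, nat_lit 7, nat_lit 4, nat_lit 6],
   [nat_lit 2, nat_lit 4, nat_lit 2],
   [nat_lit 0, nat_lit 4, nat_lit 0],
   [nat_lit 1, nat_lit 4, nat_lit 1],
   [nat_lit 9, nat_lit 2, nat_lit 1, nat_lit 9]],
  [[nat_lit 6, nat_lit 9, nat_lit 5, nat_lit 9, nat_lit 7],
   [nat_lit 11],
   [nat_lit 7, nat_lit 2, nat_lit 5, nat_lit 6],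
   [nat_lit 2, nat_lit 6, nat_lit 5, nat_lit 7],
   [nat_lit 4, nat_lit 5, nat_lit 4],
   [nat_lit 0, nat_lit 5, nat_lit 0],
   [nat_lit 6, nat_lit 5, nat_lit 7, nat_lit 2],
   [nat_lit 1, nat_lit 5, nat_lit 1],
   [nat_lit 7, nat_lit 5, nat_lit 2, nat_lit 6],
   [nat_lit 2, nat_lit 5, nat_lit 2],
   [nat_lit 8, nat_lit 5, nat_lit 8, nat_lit 2, nat_lit 0, nat_lit 8],
   [nat_lit 8, nat_lit 5, nat_lit 8, nat_lit 0, nat_lit 2, nat_lit 8]],
  [[nat_lit 11],
   [nat_lit 8, nat_lit 9, nat_lit 8, nat_lit 7, nat_lit 8, nat_lit 9, nat_lit 8],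
   [nat_lit 1, nat_lit 6, nat_lit 0],
   [nat_lit 0, nat_lit 6, nat_lit 0, nat_lit 2],
   [nat_lit 2, nat_lit 0, nat_lit 6, nat_lit 1],
   [nat_lit 8, nat_lit 6, nat_lit 2, nat_lit 8, nat_lit 2],
   [nat_lit 7, nat_lit 7],
   [nat_lit 8, nat_lit 6, nat_lit 3, nat_lit 8, nat_lit 3]],
  [[nat_lit 6, nat_lit 6],
   [nat_lit 1, nat_lit 7, nat_lit 0, nat_lit 2],
   [nat_lit 2, nat_lit 8, nat_lit 2, nat_lit 7, nat_lit 8],
   [nat_lit 2, nat_lit 7, nat_lit 0, nat_lit 1],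
   [nat_lit 0, nat_lit 2, nat_lit 7, nat_lit 0]],
  [[nat_lit 1, nat_lit 8, nat_lit 1, nat_lit 8, nat_lit 1],
   [nat_lit 0, nat_lit 8, nat_lit 0, nat_lit 8, nat_lit 0],
   [nat_lit 5, nat_lit 8, nat_lit 0, nat_lit 2, nat_lit 8, nat_lit 5],
   [nat_lit 11],
   [nat_lit 9, nat_lit 8, nat_lit 9, nat_lit 8, nat_lit 9, nat_lit 8, nat_lit 9],
   [nat_lit 6, nat_lit 2, nat_lit 8, nat_lit 2, nat_lit 7],
   [nat_lit 2, nat_lit 7, nat_lit 8, nat_lit 6, nat_lit 2],
   [nat_lit 3, nat_lit 2, nat_lit 8, nat_lit 3, nat_lit 2],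
   [nat_lit 7, nat_lit 8, nat_lit 9, nat_lit 8, nat_lit 7, nat_lit 8, nat_lit 9],
   [nat_lit 6, nat_lit 8, nat_lit 9, nat_lit 8, nat_lit 6, nat_lit 8, nat_lit 9],
   [nat_lit 2, nat_lit 3, nat_lit 8, nat_lit 2, nat_lit 3],
   [nat_lit 3, nat_lit 7, nat_lit 8, nat_lit 6, nat_lit 3]],
  [[nat_lit 6, nat_lit 9, nat_lit 6, nat_lit 9, nat_lit 6],
   [nat_lit 4, nat_lit 9, nat_lit 2, nat_lit 1],
   [nat_lit 2, nat_lit 1, nat_lit 9, nat_lit 4],
   [nat_lit 0, nat_lit 2, nat_lit 9, nat_lit 1],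
   [nat_lit 1, nat_lit 9, nat_lit 0, nat_lit 2],
   [nat_lit 1, nat_lit 2, nat_lit 9, nat_lit 4],
   [nat_lit 8, nat_lit 7, nat_lit 8, nat_lit 9, nat_lit 8, nat_lit 7, nat_lit 8],
   [nat_lit 2, nat_lit 0, nat_lit 9, nat_lit 1],
   [nat_lit 1, nat_lit 9, nat_lit 2, nat_lit 0],
   [nat_lit 4, nat_lit 9, nat_lit 1, nat_lit 2]],
  []]

def HT : List (List (Nat × Nat × Nat)) := [
  [(2, 0, 0), (0, 26, 1), (0, 27, 1), (1, 38, 0), (0, 38, 1), (0, 16, 1), (0, 10, 1), (1, 50, 2), (0, 11, 1), (0, 33, 1)],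
  [(2, 1, 0), (0, 38, 4), (1, 30, 5), (1, 44, 4), (1, 38, 2), (0, 17, 1), (0, 39, 1), (0, 26, 3), (1, 27, 2), (0, 10, 0), (0, 34, 1), (0, 12, 1)],
  [(2, 2, 0), (0, 44, 4), (1, 39, 4), (1, 44, 2), (0, 35, 2), (0, 39, 2), (0, 12, 0), (1, 50, 4), (0, 18, 1), (0, 32, 5), (1, 38, 4), (0, 11, 0), (1, 35, 6)],
  [(2, 3, 0), (0, 46, 2), (0, 40, 1), (1, 30, 2), (0, 37, 6), (0, 47, 5), (0, 13, 0), (0, 14, 0), (0, 40, 4), (0, 15, 0), (0, 19, 1), (1, 46, 2), (0, 23, 1), (1, 31, 2)],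
  [(0, 39, 4), (2, 4, 0), (1, 29, 2), (0, 29, 4), (0, 36, 2), (1, 29, 4), (0, 18, 0), (0, 16, 0), (0, 17, 0), (1, 39, 2)],
  [(0, 41, 1), (2, 5, 0), (0, 28, 4), (1, 28, 4), (0, 24, 0), (0, 20, 0), (0, 28, 2), (0, 21, 0), (1, 28, 2), (0, 22, 0), (1, 35, 2), (0, 35, 4)],
  [(2, 6, 0), (1, 43, 0), (0, 26, 2), (0, 50, 3), (1, 27, 3), (0, 32, 2), (1, 25, 0), (0, 47, 2)],
  [(0, 25, 0), (0, 27, 3), (0, 32, 4), (0, 44, 3), (0, 50, 0)],
  [(0, 34, 0), (0, 33, 0), (0, 35, 5), (2, 8, 0), (0, 45, 1), (0, 32, 3), (0, 32, 0), (1, 31, 1), (1, 43, 3), (0, 43, 0), (0, 31, 0), (0, 47, 0)],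
  [(0, 42, 0), (1, 39, 1), (1, 39, 3), (0, 38, 0), (0, 38, 3), (0, 39, 0), (1, 43, 2), (1, 38, 3), (1, 38, 1), (0, 39, 3)],
  []]

def R : List (List Nat) :=
  [[0, 0],
   [1, 1],
   [2, 2],
   [3, 3],
   [4, 4],
   [5, 5],
   [6, 7],
   [7, 6],
   [8, 8],
   [9, 9],
   [0, 1, 0, 1],
   [0, 2, 0, 2],
   [1, 2, 1, 2],
   [0, 3, 0, 3],
   [1, 3, 1, 3],
   [2, 3, 2, 3],
   [0, 4, 0, 4],
   [1, 4, 1, 4],
   [2, 4, 2, 4],
   [3, 4, 3, 4],
   [0, 5, 0, 5],
   [1, 5, 1, 5],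
   [2, 5, 2, 5],
   [3, 5, 3, 5],
   [4, 5, 4, 5],
   [6, 6, 6],
   [0, 7, 1, 6],
   [0, 2, 6, 1, 7],
   [2, 5, 6, 5, 7],
   [2, 4, 7, 4, 6],
   [0, 1, 3, 7, 3, 6],
   [2, 3, 8, 2, 3, 8],
   [2, 7, 8, 6, 2, 8],
   [0, 8, 0, 8, 0, 8],
   [1, 8, 1, 8, 1, 8],
   [0, 2, 8, 5, 8, 5, 8],
   [1, 4, 5, 8, 5, 4, 1, 8],
   [0, 5, 8, 4, 8, 3, 8, 4, 8],
   [0, 2, 9, 1, 9],
   [1, 2, 9, 4, 9],
   [3, 7, 9, 3, 9, 6],
   [5, 6, 9, 5, 9, 7],
   [6, 9, 6, 9, 6, 9],
   [6, 8, 9, 8, 6, 8, 9, 8],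
   [0, 1, 6, 2, 7],
   [8, 9, 8, 9, 8, 9, 8, 9],
   [1, 3, 9, 1, 3, 9],
   [3, 7, 8, 6, 3, 8],
   [0, 2, 4, 9, 2, 9],
   [0, 1, 9, 1, 4, 9],
   [0, 2, 7, 0, 6],
   [0, 1, 6, 8, 2, 7, 8]]

def W : List (List Nat) := [[0],
   [1],
   [2],
   [3],
   [4],
   [5],
   [6],
   [7],
   [8]]

noncomputable def P : Par := ⟨T, (nat_lit 4), (nat_lit 15), (nat_lit 168), (nat_lit 14), (nat_lit 16383), (nat_lit 6), (nat_lit 63), (nat_lit 10), (nat_lit 61), (nat_lit 64), (nat_lit 0x5a92831ca418820), RT⟩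

noncomputable def J0 : List Nat := [
  nat_lit 0x10c40010c40010c40010c40011c40011c40010c400013c40143432400084134545508400135354284808100000030840100b7006084010000a0708401864002d40c0138400190c801078984200001a06868401001800000006841886262500801800000000841a00b0000084173c006007841,
  nat_lit 0x807a2a000841bc96bc9086016809200008415640b40008417dab858000c100809908680109000084ac8100a40708640109009084800100800708400109d00084a5c13b0006087001390006849c010a3078084001990800849dc1300c95084101,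
  nat_lit 0x24ee5e120504000001021904ec2024218604e6794a120504dc2518218004e6b51e12d4040000010210040000240e100433b8001a1806f222000214061080a9023b06ec2db61614061bef87043a041041041041041041041041041041041041041041041041041]

theorem c0 : chk T (nat_lit 4) (nat_lit 15) (nat_lit 168) (nat_lit 14) (nat_lit 16383) (nat_lit 6) (nat_lit 63) (nat_lit 10) (nat_lit 61) (nat_lit 64) (nat_lit 0x5a92831ca418820) (nat_lit 4) (nat_lit 15) RT (nat_lit 16) J0 (nat_lit 16) = true := by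
  decide +kernel

theorem r0 : P.RowsOK 16 64 := chk_sound P _ _ _ J0 _ _ (by decide +kernel) c0

theorem index.{u} : IndexLe.{u} 10 R W 45 :=
  indexLe_of_cert P HT (by decide +kernel)
    (show P.RowsOK 16 64 from r0)

end Tk1

theorem upK_1 : CardLe (genW s [[0], [1], [2], [3], [4], [5], [6], [7], [8], [9]]) 103680 :=
  CardLe.tc (V' := [[0], [1], [2], [3], [4], [5], [6], [7], [8]]) (n := 45) (m := 2304) [0, 1, 2, 3, 4, 5, 6, 7, 8, 9] Tk1.index pres.sat (by decide +kernel) (by decide +kernel) (by decide +kernel) upK_2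

namespace Tk0

noncomputable def t0 : Tr := (Tr.node (nat_lit 3) (Tr.node (nat_lit 1) (Tr.node (nat_lit 0) (Tr.leaf (nat_lit 0x8a14ffff0014013d013c0c310d1d092a091d091a0831021a0a258914ffff013b0014013a013901380e190321061c061909240a1e8a13ffff0013013701360e1f0f31071a0a1f0a2a0627062a04228913ffff0135001301340133013210290a24071e0d2903210b1c8413ffff0131092b0a1b07170a140818001307140614061502166a12ffff00120130021a08250c22081d0c2a0a1f0322031f07276912ffff012f0012012e012d012c0f1e012b0e29071e062609196712ffff012a0129012805150012091b071507160716041304146512ffff0127012603170714081b0012031405130413061604156412ffff0125012401230616051606140012061808180517031b6212ffff012201210120031206180713081804120012071b05176112ffff011f011e0314091b061705160417081b071b001205186012ffff011d011c0313061305130615011b06170517051800124811ffff011a01190011011804150117011605150115011401132a10ffff001003110112021103110211021103110211021102110000ffff01110110011002100110011001100110011001100110))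
(Tr.leaf (nat_lit 0x8a19ffff0019015c015b1537015a112f0841104c083b074c0b3b8819ffff0358042e0019042e032e0159195617570158015701568719ffff0155123e1932022c0019034a083f1c3a0e450a2d0b398619ffff133d035018330019032d0b2c0c4f063e09490b3807498419ffff0154081b1c2b183a1b4b0f2100190b26082108290d2b8a18ffff001801530152112a102a081f0b1a091d0825051d09318918ffff0151001819450150014f0f1c06260d190c1c092b0c298818ffff0d23052000180d2309200d280d280c280c280b280b288a17ffff0017014e014d0b270a27022207310525051d0725061a8917ffff014c0017014b014a01490e2407290c2b0624051908268a16ffff0016014801470922091a083102220627092a0827091f8916ffff014600161a24014519400f26091c09210726081e08248816ffff0c28014400160b200e280823092303230a23072309238a15ffff0015014301420b1a0a25032703250831021a0831031d8915ffff014100150140013f013e102b021e0a24092b021c0b218815ffff0220062800150a280c2308200c20092008200b200620)))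
(Tr.node (nat_lit 2) (Tr.leaf (nat_lit 0xa721ffff0d63104f1a3f023e00210833072d0b390f500c3f1b3aa621ffff124e112d19570021033f0c3e1940052c0c321a4b0332a91fffff122c001f103d225c1846113005430a530e3009530b3da81fffff1e680173001f017201710e700170016f1168043c016eaa1effff001e016d163b1630195e113b09541246072f0a460a2fa81effff016c1e38001e094b192b1d501d391d2d1d331a3a1a3fa71effff225c094918620238001e0d451c3a0c3f0d4a0b390a2da61effff12531f3a1938001e03390c380e32194b18400a2c1840a91dffff1840001d0237175a142f13530a480e300d5305300b37a81dffff016b016a001d0169016809361c660167166501660165aa1cffff001c1c5e01641643016311350a4c14410e5104410d51a81cffff14571556001c11341034016218611058165715580161a71cffff01601132192c0232001c093f0a4a0a451c3a0c330c50a61cffff114812331a2d001c03330c320d3808490b3e104f043eaa1bffff001b0d5d0b310e1d0b1f072506270722071f0722082a891affff1549001a015f015e173b123d015d0d370f3d06370c30))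
(Tr.leaf (nat_lit 0xa629ffff0e5d0f3f1b4f002903500c4f0b2c16401a4b0f321a4ba927ffff113e0027017d246c1451114808530a4307480643094ea827ffff21722c4d0027116e136516711e6b0d7610711869084daa26ffff00261d55164c16530a55104c09350f2f0746062f0c46a826ffff1c431c4a00261a2b083a1a4b19491838194f193e1b4fa726ffff0f5a1b4b1a4a02490026022d09330c500c39094a0945a626ffff143008390b580026034a0b491a4b07320a2c1540062ca925ffff103200250e481c6d1354124e09370d5d084e0c5d0948a825ffff1f52017c0025017b0b6f19471b7a17650867017a1a67aa24ffff00241d600179173d1f5c10460f51113b084c093b0d4ca724ffff1a5e18401829184000240c39085009330d2d09450a4aa923ffff104400231b440f440e440d440b440c440c440b440d44a922ffff1b4b0022044318631535105d043d094e0d5d074e0a43a822ffff034201780022017701761c75017511680a6f0f420174aa21ffff00211d5a1741165d0d601241072f13350a5403350c54a821ffff173717450021182417451740183e174f173816491738))))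
(Tr.node (nat_lit 5) (Tr.node (nat_lit 4) (Tr.leaf (nat_lit 0xa830ffff165b0188003029782a7c2c5f2a7d01872485075f2885a730ffff19451b350f5e183b0030195a19630e5e18550d5e1e5ca430ffff0d4f0c310186186015410f4300300c480c430b480d5da92fffff2139002f23842046213d1f551e60115c205a0b5c1f5ea82fffff175f1b7a002f01850184257c018301821e7c185b275ba62fffff0e4a1e410181002f16371a5e226c115a215c0b5a0b55a52effff1059105718500f561057002e195812610d5616610e58a22effff022e1b580a49186217610c561a590f34002e14340f59a12effff13340f59183e0f59045617611262182e1734002e1862a02effff045616340a5605570e590d58182e12620e591762002eaa2dffff002d1e4c1955094c1753205c1c6d1055195e0b550c5aaa2bffff002b1963018012481c6d1254083b1451094109510b41a92affff1138002a017f1855154c1237074e0b3d0c37083d0d53a82affff1e471c52002a1e7413671876017e0f710c761c7b1252aa29ffff0029206c1751134e236c12510e4615540d350a540c35a729ffff1c6d022c1959024f00291c3a07450b4a0e3f0b500b33))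
(Tr.leaf (nat_lit 0xc33cffff0b6f268a156f0a470d7b1e742074003c0942056f2375c03cffff1d6e018b1b671265104d16681a681b751970056e003cc93bffff1b50003b1d8a1b541b481b601b55126d1a630b6d206cca3affff003a2151256c2251234e1f63215a206c1e601b6c216dca36ffff00362b6b046b227021662b691f4d2a7b2b692071176bc936ffff287f0036036a31861f732880257926642380176a1d6ac736ffff22651e711a7a026800362c6b2a71297e2a6b174d1369c636ffff1f3c1881156800360369176e196e1042103c12681870c336ffff1e761d831c6e12521d740a671d77003607471c771947c136ffff1f7124801d7b226b19700a661b361a77177200361372c036ffff21692a820574144d136e0a651a721847153613720036c835ffff1b7d1f7700352e88018a2783207c256a20831c641d64c635ffff0c3f1a54018900351743206c185e15631b6d10630e60c534ffff18621762173916611758003411571156136116561757c034ffff176117610c6116581562165717341159146215590034ca33ffff00331c4619600c41175d1c6d1d5c14601f6c0d600f63)))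
(Tr.node (nat_lit 6) (Tr.leaf (nat_lit 0xc853ffff296a1d7f00532b8b1882147f2b8624851187277f2a87c452ffff2877297e287e0d75267a287b00522869287b2776137ec84effff1a642d7d004e2d8c2c83137d295f2c8d2888087d2c88c947ffff278500472b7c295f1e78265b1f641e791d5b1b7c1c7cc747ffff2a7a1d761c660c6f0047297e2876296b297e1b520e7bc147ffff2b7b1c5b1969277e24751a7a1a4718721b7700470c77c846ffff018d25720046248723812582246a1f7c14821a792579c942ffff2178004224781f7c285f1578258a128b1c781d841d78c742ffff297e1e641d77027600421b771c6719661c7a1b670d7ac642ffff1d671e7b1f70004203771752297b0c4d0b52287e0e76c442ffff24741e842271257a0e7e1b4200421a6e21741075226fc042ffff2375208c04651c671d521d6f216f1e70227510740042c93cffff2f81003c20731e6a308622731981018c1a7322891b73c73cffff204d267914720271003c14721965197a186612651266c63cffff1e661d692375003c0372154d29690e520f4d1f6b1171c43cffff1e70218920761866236b0d3c003c1f74186e05701768))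
(Tr.leaf (nat_lit 0xffffffffffffffffffffffffffffffffffffffffffffffff0000ffffffffffffffffffffffffffffffffffffffffffffffffea79ffff00792e8d1b8d2c892d80268d27872b7d2c861b8d2d86e373ffff258c1f74208c1d832c7d218c1a8400731b8c238a1c8ce96effff2f89006e1c8b2b822a7f148b228911781b8b1a811c8be664ffff1e8a256f1c6d00642f881e8a247816891c8a248c1d8ae863ffff308b207000631c802d8d1f89238b178a1b8921731e89c95fffff2683005f0388308a2d64278825852886277d27882b7dc35fffff2a8030862b87188123792b87288d005f107f0887297fc85dffff2e822f87005d2f73306a11862a7f29882d8d0f862e8dc75bffff267c248529850284005b25852688237f255f2685275fc65bffff24841d75225c005b03852d841b8c12811c841c781984c45bffff27881c6721832b7d1e8c2664005b26801f6419832883c35bffff2f8629652a82177f2c8b24792580005b137919822882c85affff2e731768005a227919872c811a7313841b811b8b1a81c854ffff2b87236600542e8d1d89296a26822783226a1f801f80)))))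

noncomputable def T : Tr := t0

def RT : List (List (List Nat)) := [
  [[nat_lit 4, nat_lit 0, nat_lit 4],
   [nat_lit 2, nat_lit 10, nat_lit 0, nat_lit 10],
   [nat_lit 7, nat_lit 1, nat_lit 6],
   [nat_lit 12],
   [nat_lit 10, nat_lit 0, nat_lit 2, nat_lit 10],
   [nat_lit 8, nat_lit 5, nat_lit 8, nat_lit 5, nat_lit 8, nat_lit 2],
   [nat_lit 2, nat_lit 0, nat_lit 2],
   [nat_lit 8, nat_lit 0, nat_lit 8, nat_lit 0, nat_lit 8],
   [nat_lit 6, nat_lit 2, nat_lit 0, nat_lit 7],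
   [nat_lit 1, nat_lit 0, nat_lit 1],
   [nat_lit 9, nat_lit 1, nat_lit 9, nat_lit 2],
   [nat_lit 2, nat_lit 9, nat_lit 1, nat_lit 9],
   [nat_lit 3, nat_lit 0, nat_lit 3],
   [nat_lit 10, nat_lit 2, nat_lit 0, nat_lit 10],
   [nat_lit 6, nat_lit 0, nat_lit 2, nat_lit 7],
   [nat_lit 8, nat_lit 4, nat_lit 8, nat_lit 3, nat_lit 8, nat_lit 4, nat_lit 8, nat_lit 5],
   [nat_lit 6, nat_lit 2, nat_lit 7, nat_lit 1],
   [nat_lit 1, nat_lit 6, nat_lit 2, nat_lit 7],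
   [nat_lit 5, nat_lit 0, nat_lit 5],
   [nat_lit 9, nat_lit 4, nat_lit 1, nat_lit 9, nat_lit 1]],
  [[nat_lit 10, nat_lit 1, nat_lit 10],
   [nat_lit 9, nat_lit 2, nat_lit 0, nat_lit 9],
   [nat_lit 9, nat_lit 0, nat_lit 2, nat_lit 9],
   [nat_lit 12],
   [nat_lit 6, nat_lit 0, nat_lit 7],
   [nat_lit 4, nat_lit 1, nat_lit 4],
   [nat_lit 0, nat_lit 1, nat_lit 0],
   [nat_lit 2, nat_lit 9, nat_lit 4, nat_lit 9],
   [nat_lit 7, nat_lit 2, nat_lit 0, nat_lit 6],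
   [nat_lit 8, nat_lit 1, nat_lit 8, nat_lit 1, nat_lit 8],
   [nat_lit 6, nat_lit 2, nat_lit 7, nat_lit 0],
   [nat_lit 2, nat_lit 1, nat_lit 2],
   [nat_lit 3, nat_lit 1, nat_lit 3],
   [nat_lit 0, nat_lit 10, nat_lit 6, nat_lit 10, nat_lit 6]],
  [[nat_lit 10, nat_lit 2, nat_lit 10],
   [nat_lit 12],
   [nat_lit 8, nat_lit 5, nat_lit 8, nat_lit 5, nat_lit 8, nat_lit 0],
   [nat_lit 1, nat_lit 9, nat_lit 4, nat_lit 9],
   [nat_lit 3, nat_lit 8, nat_lit 2, nat_lit 3, nat_lit 8],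
   [nat_lit 0, nat_lit 8, nat_lit 5, nat_lit 8, nat_lit 5, nat_lit 8],
   [nat_lit 4, nat_lit 2, nat_lit 4],
   [nat_lit 9, nat_lit 4, nat_lit 9, nat_lit 1],
   [nat_lit 1, nat_lit 2, nat_lit 1],
   [nat_lit 7, nat_lit 1, nat_lit 0, nat_lit 6],
   [nat_lit 3, nat_lit 2, nat_lit 3],
   [nat_lit 7, nat_lit 0, nat_lit 1, nat_lit 6],
   [nat_lit 0, nat_lit 2, nat_lit 0],
   [nat_lit 0, nat_lit 6, nat_lit 1, nat_lit 7],
   [nat_lit 9, nat_lit 1, nat_lit 9, nat_lit 0],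
   [nat_lit 7, nat_lit 8, nat_lit 6, nat_lit 2, nat_lit 8],
   [nat_lit 6, nat_lit 1, nat_lit 7, nat_lit 0],
   [nat_lit 5, nat_lit 2, nat_lit 5],
   [nat_lit 7, nat_lit 0, nat_lit 6, nat_lit 0],
   [nat_lit 9, nat_lit 0, nat_lit 2, nat_lit 4, nat_lit 9],
   [nat_lit 9, nat_lit 4, nat_lit 2, nat_lit 0, nat_lit 9],
   [nat_lit 8, nat_lit 10, nat_lit 8, nat_lit 2, nat_lit 8, nat_lit 10, nat_lit 8, nat_lit 2, nat_lit 8, nat_lit 10, nat_lit 8],
   [nat_lit 8, nat_lit 2, nat_lit 7, nat_lit 8, nat_lit 6],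
   [nat_lit 0, nat_lit 9, nat_lit 1, nat_lit 9]],
  [[nat_lit 12],
   [nat_lit 4, nat_lit 10, nat_lit 3, nat_lit 5, nat_lit 10],
   [nat_lit 2, nat_lit 8, nat_lit 3, nat_lit 2, nat_lit 8],
   [nat_lit 9, nat_lit 1, nat_lit 3, nat_lit 9, nat_lit 1],
   [nat_lit 5, nat_lit 10, nat_lit 3, nat_lit 4, nat_lit 10],
   [nat_lit 7, nat_lit 9, nat_lit 3, nat_lit 9, nat_lit 6],
   [nat_lit 0, nat_lit 3, nat_lit 0],
   [nat_lit 4, nat_lit 3, nat_lit 4],
   [nat_lit 2, nat_lit 3, nat_lit 2],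
   [nat_lit 1, nat_lit 3, nat_lit 1],
   [nat_lit 1, nat_lit 9, nat_lit 3, nat_lit 1, nat_lit 9],
   [nat_lit 6, nat_lit 3, nat_lit 1, nat_lit 0, nat_lit 7],
   [nat_lit 6, nat_lit 0, nat_lit 1, nat_lit 3, nat_lit 7],
   [nat_lit 10, nat_lit 5, nat_lit 3, nat_lit 10, nat_lit 4],
   [nat_lit 7, nat_lit 3, nat_lit 6, nat_lit 0, nat_lit 1],
   [nat_lit 7, nat_lit 8, nat_lit 6, nat_lit 3, nat_lit 8],
   [nat_lit 8, nat_lit 4, nat_lit 8, nat_lit 0, nat_lit 5, nat_lit 8, nat_lit 4, nat_lit 8],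
   [nat_lit 5, nat_lit 3, nat_lit 5],
   [nat_lit 9, nat_lit 6, nat_lit 3, nat_lit 7, nat_lit 9],
   [nat_lit 8, nat_lit 2, nat_lit 3, nat_lit 8, nat_lit 2]],
  [[nat_lit 9, nat_lit 2, nat_lit 1, nat_lit 9],
   [nat_lit 10, nat_lit 4, nat_lit 2, nat_lit 10],
   [nat_lit 12],
   [nat_lit 10, nat_lit 2, nat_lit 4, nat_lit 10],
   [nat_lit 5, nat_lit 8, nat_lit 5, nat_lit 4, nat_lit 1, nat_lit 8, nat_lit 1],
   [nat_lit 2, nat_lit 4, nat_lit 2],
   [nat_lit 1, nat_lit 4, nat_lit 1],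
   [nat_lit 9, nat_lit 1, nat_lit 2, nat_lit 9],
   [nat_lit 6, nat_lit 4, nat_lit 2, nat_lit 7],
   [nat_lit 5, nat_lit 4, nat_lit 5],
   [nat_lit 1, nat_lit 8, nat_lit 1, nat_lit 4, nat_lit 5, nat_lit 8, nat_lit 5],
   [nat_lit 6, nat_lit 2, nat_lit 4, nat_lit 7],
   [nat_lit 7, nat_lit 4, nat_lit 6, nat_lit 2],
   [nat_lit 0, nat_lit 4, nat_lit 0],
   [nat_lit 3, nat_lit 4, nat_lit 3],
   [nat_lit 3, nat_lit 10, nat_lit 5, nat_lit 3, nat_lit 10],
   [nat_lit 10, nat_lit 3, nat_lit 5, nat_lit 10, nat_lit 3]],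
  [[nat_lit 10, nat_lit 5, nat_lit 2, nat_lit 10],
   [nat_lit 6, nat_lit 9, nat_lit 5, nat_lit 9, nat_lit 7],
   [nat_lit 12],
   [nat_lit 10, nat_lit 2, nat_lit 5, nat_lit 10],
   [nat_lit 2, nat_lit 5, nat_lit 2],
   [nat_lit 4, nat_lit 5, nat_lit 4],
   [nat_lit 8, nat_lit 5, nat_lit 8, nat_lit 2, nat_lit 0, nat_lit 8],
   [nat_lit 0, nat_lit 5, nat_lit 0],
   [nat_lit 2, nat_lit 6, nat_lit 5, nat_lit 7],
   [nat_lit 6, nat_lit 5, nat_lit 7, nat_lit 2],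
   [nat_lit 3, nat_lit 5, nat_lit 3],
   [nat_lit 1, nat_lit 5, nat_lit 1],
   [nat_lit 7, nat_lit 2, nat_lit 5, nat_lit 6],
   [nat_lit 7, nat_lit 5, nat_lit 2, nat_lit 6],
   [nat_lit 10, nat_lit 5, nat_lit 10, nat_lit 2],
   [nat_lit 9, nat_lit 7, nat_lit 5, nat_lit 6, nat_lit 9],
   [nat_lit 8, nat_lit 2, nat_lit 0, nat_lit 8, nat_lit 5, nat_lit 8],
   [nat_lit 4, nat_lit 1, nat_lit 8, nat_lit 1, nat_lit 4, nat_lit 5, nat_lit 8]],
  [[nat_lit 8, nat_lit 6, nat_lit 2, nat_lit 8, nat_lit 2],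
   [nat_lit 12],
   [nat_lit 1, nat_lit 6, nat_lit 0],
   [nat_lit 0, nat_lit 6, nat_lit 2, nat_lit 0],
   [nat_lit 4, nat_lit 6, nat_lit 2, nat_lit 4],
   [nat_lit 3, nat_lit 6, nat_lit 3, nat_lit 1, nat_lit 0],
   [nat_lit 7, nat_lit 7],
   [nat_lit 4, nat_lit 6, nat_lit 4, nat_lit 2],
   [nat_lit 2, nat_lit 0, nat_lit 6, nat_lit 1],
   [nat_lit 8, nat_lit 9, nat_lit 8, nat_lit 7, nat_lit 8, nat_lit 9, nat_lit 8],
   [nat_lit 8, nat_lit 6, nat_lit 3, nat_lit 8, nat_lit 3],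
   [nat_lit 5, nat_lit 2, nat_lit 6, nat_lit 5],
   [nat_lit 0, nat_lit 6, nat_lit 0, nat_lit 2],
   [nat_lit 0, nat_lit 2, nat_lit 6, nat_lit 1],
   [nat_lit 9, nat_lit 7, nat_lit 9, nat_lit 7, nat_lit 9],
   [nat_lit 0, nat_lit 1, nat_lit 6, nat_lit 2]],
  [[nat_lit 6, nat_lit 6],
   [nat_lit 10, nat_lit 6, nat_lit 1, nat_lit 0, nat_lit 10],
   [nat_lit 2, nat_lit 8, nat_lit 2, nat_lit 7, nat_lit 8],
   [nat_lit 1, nat_lit 7, nat_lit 0, nat_lit 2],
   [nat_lit 1, nat_lit 0, nat_lit 10, nat_lit 6, nat_lit 10],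
   [nat_lit 4, nat_lit 2, nat_lit 7, nat_lit 4],
   [nat_lit 0, nat_lit 7, nat_lit 1],
   [nat_lit 2, nat_lit 0, nat_lit 7, nat_lit 0],
   [nat_lit 0, nat_lit 2, nat_lit 7, nat_lit 0],
   [nat_lit 9, nat_lit 6, nat_lit 9, nat_lit 6, nat_lit 9],
   [nat_lit 2, nat_lit 4, nat_lit 7, nat_lit 4]],
  [[nat_lit 0, nat_lit 8, nat_lit 0, nat_lit 8, nat_lit 0],
   [nat_lit 1, nat_lit 8, nat_lit 1, nat_lit 8, nat_lit 1],
   [nat_lit 5, nat_lit 8, nat_lit 0, nat_lit 2, nat_lit 8, nat_lit 5],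
   [nat_lit 10, nat_lit 8, nat_lit 10, nat_lit 8, nat_lit 10, nat_lit 8, nat_lit 10],
   [nat_lit 2, nat_lit 7, nat_lit 8, nat_lit 6, nat_lit 2],
   [nat_lit 12],
   [nat_lit 3, nat_lit 2, nat_lit 8, nat_lit 3, nat_lit 2],
   [nat_lit 2, nat_lit 3, nat_lit 8, nat_lit 2, nat_lit 3],
   [nat_lit 3, nat_lit 7, nat_lit 8, nat_lit 6, nat_lit 3],
   [nat_lit 9, nat_lit 8, nat_lit 9, nat_lit 8, nat_lit 9, nat_lit 8, nat_lit 9],
   [nat_lit 6, nat_lit 2, nat_lit 8, nat_lit 2, nat_lit 7],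
   [nat_lit 6, nat_lit 3, nat_lit 8, nat_lit 3, nat_lit 7],
   [nat_lit 9, nat_lit 10, nat_lit 0, nat_lit 8, nat_lit 10, nat_lit 2, nat_lit 9, nat_lit 8, nat_lit 9, nat_lit 2, nat_lit 10, nat_lit 8, nat_lit 0, nat_lit 10, nat_lit 9],
   [nat_lit 9, nat_lit 2, nat_lit 10, nat_lit 8, nat_lit 0, nat_lit 10, nat_lit 9, nat_lit 8, nat_lit 9, nat_lit 10, nat_lit 0, nat_lit 8, nat_lit 10, nat_lit 2, nat_lit 9]],
  [[nat_lit 6, nat_lit 9, nat_lit 6, nat_lit 9, nat_lit 6],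
   [nat_lit 4, nat_lit 9, nat_lit 1, nat_lit 2],
   [nat_lit 1, nat_lit 9, nat_lit 0, nat_lit 2],
   [nat_lit 0, nat_lit 2, nat_lit 9, nat_lit 1],
   [nat_lit 2, nat_lit 1, nat_lit 9, nat_lit 4],
   [nat_lit 7, nat_lit 9, nat_lit 7, nat_lit 9, nat_lit 7],
   [nat_lit 4, nat_lit 9, nat_lit 2, nat_lit 1],
   [nat_lit 1, nat_lit 9, nat_lit 2, nat_lit 0],
   [nat_lit 3, nat_lit 9, nat_lit 6, nat_lit 3, nat_lit 7],
   [nat_lit 12],
   [nat_lit 10, nat_lit 0, nat_lit 4, nat_lit 7, nat_lit 9, nat_lit 6, nat_lit 10],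
   [nat_lit 8, nat_lit 6, nat_lit 8, nat_lit 9, nat_lit 8, nat_lit 6, nat_lit 8],
   [nat_lit 8, nat_lit 9, nat_lit 8, nat_lit 9, nat_lit 8, nat_lit 9, nat_lit 8],
   [nat_lit 0, nat_lit 2, nat_lit 4, nat_lit 9, nat_lit 2],
   [nat_lit 1, nat_lit 2, nat_lit 9, nat_lit 4],
   [nat_lit 8, nat_lit 10, nat_lit 2, nat_lit 8, nat_lit 9, nat_lit 8, nat_lit 2, nat_lit 10, nat_lit 8, nat_lit 9, nat_lit 8, nat_lit 10, nat_lit 2, nat_lit 8],
   [nat_lit 3, nat_lit 1, nat_lit 9, nat_lit 3, nat_lit 1],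
   [nat_lit 8, nat_lit 7, nat_lit 8, nat_lit 9, nat_lit 8, nat_lit 7, nat_lit 8],
   [nat_lit 2, nat_lit 0, nat_lit 9, nat_lit 1]],
  [[nat_lit 0, nat_lit 10, nat_lit 0, nat_lit 2],
   [nat_lit 7, nat_lit 10, nat_lit 0, nat_lit 1, nat_lit 7],
   [nat_lit 9, nat_lit 10, nat_lit 0, nat_lit 4, nat_lit 7, nat_lit 9, nat_lit 6],
   [nat_lit 1, nat_lit 10, nat_lit 1],
   [nat_lit 2, nat_lit 10, nat_lit 2],
   [nat_lit 4, nat_lit 2, nat_lit 10, nat_lit 4],
   [nat_lit 8, nat_lit 2, nat_lit 8, nat_lit 10, nat_lit 8, nat_lit 2, nat_lit 8, nat_lit 10, nat_lit 8, nat_lit 2, nat_lit 8],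
   [nat_lit 8, nat_lit 10, nat_lit 8, nat_lit 10, nat_lit 8, nat_lit 10, nat_lit 8],
   [nat_lit 4, nat_lit 3, nat_lit 10, nat_lit 5, nat_lit 3],
   [nat_lit 0, nat_lit 1, nat_lit 7, nat_lit 10, nat_lit 7],
   [nat_lit 3, nat_lit 5, nat_lit 10, nat_lit 3, nat_lit 4],
   [nat_lit 0, nat_lit 4, nat_lit 7, nat_lit 9, nat_lit 6, nat_lit 10, nat_lit 9],
   [nat_lit 2, nat_lit 8, nat_lit 9, nat_lit 8, nat_lit 10, nat_lit 2, nat_lit 8, nat_lit 9, nat_lit 8, nat_lit 2, nat_lit 10, nat_lit 8, nat_lit 9, nat_lit 8],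
   [nat_lit 2, nat_lit 0, nat_lit 10, nat_lit 0],
   [nat_lit 0, nat_lit 10, nat_lit 2, nat_lit 0],
   [nat_lit 7, nat_lit 9, nat_lit 6, nat_lit 4, nat_lit 0, nat_lit 10, nat_lit 9],
   [nat_lit 4, nat_lit 10, nat_lit 2, nat_lit 4]],
  []]

def HT : List (List (Nat × Nat × Nat)) := [
  [(0, 17, 1), (0, 49, 1), (0, 27, 1), (2, 0, 0), (0, 49, 4), (1, 36, 0), (0, 12, 1), (0, 34, 1), (1, 63, 2), (0, 11, 1), (1, 39, 0), (0, 39, 1), (0, 14, 1), (1, 49, 2), (0, 63, 4), (1, 38, 0), (1, 45, 0), (0, 45, 1), (0, 21, 1), (1, 59, 0)],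
  [(0, 47, 1), (1, 39, 2), (0, 39, 4), (2, 1, 0), (0, 27, 3), (0, 18, 1), (0, 11, 0), (0, 40, 1), (1, 28, 2), (0, 35, 1), (0, 45, 2), (0, 13, 1), (0, 15, 1), (1, 52, 5)],
  [(0, 48, 1), (2, 2, 0), (0, 36, 2), (1, 40, 4), (0, 32, 1), (1, 36, 6), (0, 19, 1), (0, 40, 2), (0, 13, 0), (1, 45, 2), (0, 16, 1), (0, 45, 4), (0, 12, 0), (1, 28, 4), (0, 39, 2), (0, 33, 1), (0, 28, 2), (0, 23, 1), (0, 63, 2), (0, 57, 5), (1, 57, 2), (0, 60, 1), (0, 33, 5), (1, 39, 4)],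
  [(2, 3, 0), (0, 53, 1), (1, 32, 2), (0, 54, 2), (0, 53, 4), (0, 41, 1), (0, 14, 0), (0, 20, 1), (0, 16, 0), (0, 15, 0), (1, 54, 2), (1, 31, 2), (0, 31, 5), (1, 53, 0), (0, 31, 3), (0, 55, 1), (0, 38, 6), (0, 24, 1), (0, 41, 4), (0, 32, 2)],
  [(1, 40, 2), (1, 50, 2), (2, 4, 0), (0, 50, 4), (0, 37, 2), (0, 19, 0), (0, 18, 0), (0, 40, 4), (1, 30, 2), (0, 25, 1), (0, 37, 6), (0, 30, 4), (0, 30, 2), (0, 17, 0), (0, 20, 0), (1, 53, 5), (0, 53, 2)],
  [(1, 51, 2), (0, 42, 1), (2, 5, 0), (0, 51, 4), (0, 23, 0), (0, 25, 0), (1, 36, 2), (0, 21, 0), (1, 29, 4), (0, 29, 2), (0, 24, 0), (0, 22, 0), (0, 29, 4), (1, 29, 2), (0, 51, 2), (0, 42, 4), (1, 36, 4), (0, 37, 5)],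
  [(0, 33, 2), (2, 6, 0), (0, 27, 2), (1, 63, 1), (0, 30, 3), (1, 31, 1), (1, 26, 0), (1, 30, 1), (1, 28, 3), (1, 44, 0), (0, 55, 2), (1, 29, 3), (0, 63, 3), (0, 28, 0), (1, 43, 0), (0, 45, 0)],
  [(0, 26, 0), (1, 52, 2), (0, 33, 4), (0, 28, 3), (1, 52, 4), (1, 30, 3), (0, 27, 0), (1, 63, 3), (0, 63, 0), (0, 43, 1), (0, 30, 0)],
  [(0, 34, 0), (0, 35, 0), (0, 36, 5), (0, 58, 1), (0, 33, 0), (2, 8, 0), (1, 32, 1), (0, 32, 0), (0, 55, 0), (0, 46, 1), (0, 33, 3), (0, 55, 3), (0, 62, 14), (0, 62, 6)],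
  [(0, 43, 0), (0, 40, 3), (0, 39, 3), (0, 39, 0), (1, 40, 3), (1, 43, 1), (1, 40, 1), (1, 39, 1), (0, 41, 3), (2, 9, 0), (0, 56, 7), (0, 44, 3), (0, 46, 0), (0, 57, 0), (0, 40, 0), (1, 61, 8), (1, 54, 1), (1, 44, 2), (1, 39, 3)],
  [(0, 49, 3), (0, 52, 4), (0, 56, 6), (0, 47, 0), (0, 48, 0), (1, 50, 3), (0, 60, 3), (0, 58, 0), (1, 53, 4), (0, 52, 0), (0, 53, 3), (0, 56, 0), (1, 61, 5), (1, 49, 3), (1, 49, 1), (1, 56, 3), (0, 50, 3)],
  []]

def R : List (List Nat) :=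
  [[0, 0],
   [1, 1],
   [2, 2],
   [3, 3],
   [4, 4],
   [5, 5],
   [6, 7],
   [7, 6],
   [8, 8],
   [9, 9],
   [10, 10],
   [0, 1, 0, 1],
   [0, 2, 0, 2],
   [1, 2, 1, 2],
   [0, 3, 0, 3],
   [1, 3, 1, 3],
   [2, 3, 2, 3],
   [0, 4, 0, 4],
   [1, 4, 1, 4],
   [2, 4, 2, 4],
   [3, 4, 3, 4],
   [0, 5, 0, 5],
   [1, 5, 1, 5],
   [2, 5, 2, 5],
   [3, 5, 3, 5],
   [4, 5, 4, 5],
   [6, 6, 6],
   [0, 7, 1, 6],
   [0, 2, 6, 1, 7],
   [2, 5, 6, 5, 7],
   [2, 4, 7, 4, 6],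
   [0, 1, 3, 7, 3, 6],
   [2, 3, 8, 2, 3, 8],
   [2, 7, 8, 6, 2, 8],
   [0, 8, 0, 8, 0, 8],
   [1, 8, 1, 8, 1, 8],
   [0, 2, 8, 5, 8, 5, 8],
   [1, 4, 5, 8, 5, 4, 1, 8],
   [0, 5, 8, 4, 8, 3, 8, 4, 8],
   [0, 2, 9, 1, 9],
   [1, 2, 9, 4, 9],
   [3, 7, 9, 3, 9, 6],
   [5, 6, 9, 5, 9, 7],
   [6, 9, 6, 9, 6, 9],
   [6, 8, 9, 8, 6, 8, 9, 8],
   [0, 1, 6, 2, 7],
   [8, 9, 8, 9, 8, 9, 8, 9],
   [1, 10, 1, 10],
   [2, 10, 2, 10],
   [0, 2, 10, 0, 10],
   [2, 4, 10, 4, 10],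
   [2, 5, 10, 5, 10],
   [0, 1, 7, 10, 7, 10],
   [3, 4, 10, 3, 5, 10],
   [1, 3, 9, 1, 3, 9],
   [3, 7, 8, 6, 3, 8],
   [0, 4, 7, 9, 6, 10, 9, 10],
   [0, 2, 4, 9, 2, 9],
   [8, 10, 8, 10, 8, 10, 8, 10],
   [0, 1, 9, 1, 4, 9],
   [2, 8, 10, 8, 2, 8, 10, 8, 2, 8, 10, 8],
   [2, 8, 9, 8, 2, 10, 8, 9, 8, 2, 10, 8, 9, 8, 10],
   [0, 8, 10, 2, 9, 8, 9, 2, 10, 8, 0, 10, 9, 8, 9, 10],
   [0, 2, 7, 0, 6],
   [0, 1, 6, 8, 2, 7, 8]]

def W : List (List Nat) := [[0],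
   [1],
   [2],
   [3],
   [4],
   [5],
   [6],
   [7],
   [8],
   [9]]

noncomputable def P : Par := ⟨T, (nat_lit 4), (nat_lit 15), (nat_lit 208), (nat_lit 16), (nat_lit 65535), (nat_lit 8), (nat_lit 255), (nat_lit 11), (nat_lit 142), (nat_lit 144), (nat_lit 0xc5a92831ca418820), RT⟩

noncomputable def J0 : List Nat := [
  nat_lit 0x23c20008f080021c200083080022c20008b080021c200004b840014e10013084329403032081000000000082000182000006280400010410000720860001002090000100000101c0b8203000000138088341000800019314040208800001580000000004100100000000032820811210982d01440001100000000004100100000018000020815812503c000410010080a38080002081,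
  nat_lit 0x4ace46200082040170c001000004100118040000020020818acf2320048201816a40b40000641001580001800600208160ca0038000410014084600880002081519ee6a84282d0012020949c000410010084a4348000208171d0a82c011a30010016002c1054000101808002088c0001000130016082e0010000003400002081,
  nat_lit 0x58009000000410015884919c824020810018053010400001019c000208805001001400018082f0010000001c0000208100000048008200011100000120741001028000341044000151800782088000012180000000830001780400340830208102c00000008201011010901c0044128120007030104060010180d50e08940001,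
  nat_lit 0x581407b4828292810080619c0052608101800000008204815800c100807c1281690ac4c6005c1681019ce026081a000100806040880020810000a03000820001600004800044128122c0802810407301819a058e088c800103995831628200015884f4140052208148000881e082600168ca00340004130171c0b70c10523001,
  nat_lit 0x11109526088020015804039806322081700000000083130169e0049d200413811084a19c0601e0810081000103602081820001006804080104100000208c450100a09008000c8701a02603c1001807812280800110400101208000300083300100dcc01d0004130159d4c8303800420111a4d02a089a830102f0003000820481,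
  nat_lit 0x8104810361608182f0216d7204a28123593341400c328122008681104001819880900000820001820a000900000281041501ad00000001700d040c0100000103631780104c00012318000208800001a8c00030005c150178000030822ca0810084a39908682081411253a9490413018280000e2a840501038d060001140301,
  nat_lit 0xa1e6083302000301409918281040a6019300053608860301682a01300b34100182804c0f4204010111d0982c0012000170224030104c0181020088320892d00170180030801c188123400680008230019c162e0c200600012180340208864301a932a4820244100102c003c80082e4811194b82d41d86581038000480082e001,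
  nat_lit 0x51a4000000834001702e00280482d601238d04ef0114500111e0a827031830012399103010510481634110320884a30102c0084908830301738d04094104030111c4449e205c1381712e00300482d001201918491050648168ed4144821c12817399061141d4a901709899090728a081020408102040810204081020408102040810204081]

theorem c0 : chk T (nat_lit 4) (nat_lit 15) (nat_lit 208) (nat_lit 16) (nat_lit 65535) (nat_lit 8) (nat_lit 255) (nat_lit 11) (nat_lit 142) (nat_lit 144) (nat_lit 0xc5a92831ca418820) (nat_lit 5) (nat_lit 31) RT (nat_lit 16) J0 (nat_lit 16) = true := by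
  decide +kernel

theorem r0 : P.RowsOK 16 144 := chk_sound P _ _ _ J0 _ _ (by decide +kernel) c0

theorem index.{u} : IndexLe.{u} 11 R W 126 :=
  indexLe_of_cert P HT (by decide +kernel)
    (show P.RowsOK 16 144 from r0)

end Tk0

theorem upK : CardLe (genW s [[0], [1], [2], [3], [4], [5], [6], [7], [8], [9], [10]]) 13063680 :=
  CardLe.tc (V' := [[0], [1], [2], [3], [4], [5], [6], [7], [8], [9]]) (n := 126) (m := 103680) [0, 1, 2, 3, 4, 5, 6, 7, 8, 9, 10] Tk0.index pres.sat (by decide +kernel) (by decide +kernel) (by decide +kernel) upK_1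

theorem up : CardLe (gen s 12) 4585351680 := upK.step (Top.index _ s pres.sat)

end Cfsg.Agent.SchurG.O73
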